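import Groth.Agent.Lib.AttrBorel21.CentreQuot
import Groth.Agent.Lib.AttrBorel21.MaxTori
import Groth.Agent.Lib.TorPts21.MaximalTorusClosed
import Groth.Agent.Lib.TorPts21.Max
import Groth.Agent.Lib.BorelFix21.BaseChange
import Groth.Agent.Lib.MTExt21.BaseChange
import Groth.Agent.Lib.TorPts21.BorelCentre
import Groth.Agent.Lib.BorelNorm21.Parabolic
import Groth.Agent.Lib.CentMT21.Preimage
import Groth.Agent.Lib.PMor16.UnipTorus

/-!
# Maximal tori of parabolic subgroups
-/

set_option autoImplicit false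
set_option linter.style.haveILetI false
set_option backward.isDefEq.respectTransparency false
set_option backward.isDefEq.respectTransparency.types false
set_option maxSynthPendingDepth 3

universe u

open CategoryTheory CategoryTheory.Limits MonoidalCategory CartesianMonoidalCategory MonObj GrpObj AlgebraicGeometry

noncomputable section

namespace Groth.Agent.ParTorus19

/-- If some maximal torus of `G` lies in the connected subgroup `P`, then all maximal tori of `P` are maximal
in `G`. -/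
theorem isMaxTorus_comp {k : Type u} [Field k] [IsAlgClosed k] {P G T₀ T : Over (Spec (CommRingCat.of k))}
    [GrpObj P] [GrpObj G] [GrpObj T₀] [GrpObj T] [Smooth P.hom] [QuasiCompact P.hom] [ConnectedSpace P.left]
    [IsAffine G.left] [Smooth G.hom]
    (ps : P ⟶ G) [IsMonHom ps] [Mono ps] (t₀ : T₀ ⟶ P) [IsMonHom t₀] (h₀ : AGF.IsMaxTorus (t₀ ≫ ps))
    (t : T ⟶ P) (hu : AGF.IsMaxTorus t) : AGF.IsMaxTorus (t ≫ ps) := by
  haveI := h₀.2.1
  have hu₀ : AGF.IsMaxTorus t₀ := ⟨inferInstance, mono_of_mono t₀ ps, h₀.2.2.1, fun T' _ j _ _ f hT' hf =>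
    h₀.2.2.2 T' (j ≫ ps) f hT' (by rw [← Category.assoc, hf])⟩
  haveI := hu.1
  haveI := hu.2.1
  haveI := hu₀.2.1
  obtain ⟨g, φ, hφ⟩ := AttrBorel21.exists_conj_maximalTorus hu₀ hu
  have heq : AGF.conjBy (g ≫ ps) (t₀ ≫ ps) = φ.hom ≫ t ≫ ps := by
    rw [← Category.assoc φ.hom, ← hφ, MonObj.mul_comp, MonObj.mul_comp, GrpObj.inv_comp, Category.assoc]
  obtain ⟨-, -, -, hmax⟩ := TorPts21.isMaxTorus_conjBy h₀ (g ≫ ps)
  refine ⟨inferInstance, inferInstance, hu.2.2.1, fun T' _ j _ _ f hT' hf => ?_⟩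
  haveI : IsIso (φ.hom ≫ f) := hmax T' j (φ.hom ≫ f) hT' (by rw [heq, Category.assoc, hf])
  haveI : IsIso φ.hom := φ.isIso_hom
  exact IsIso.of_isIso_comp_left φ.hom f

variable {S : Scheme.{u}} {G P : Over S} [GrpObj G] [GrpObj P]

/-- The geometric fibres of a parabolic subgroup contain maximal tori. -/
theorem exists_torus (hG : Red.IsReductive G) (p : P ⟶ G) (hP : Red.IsParabolic p) (s : S) :
    ∃ (T : Over (Spec (CommRingCat.of (AlgebraicClosure (S.residueField s))))) (_ : GrpObj T)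
      (t : T ⟶ Red.geomFibre s P), IsMonHom t ∧ AGF.IsMaxTorus (t ≫ (Over.pullback (Red.geomPt s)).map p) := by
  haveI : IsAffine (Red.geomFibre s G).left := (hG.2.2 s).1
  haveI : Smooth (Red.geomFibre s G).hom := (hG.2.2 s).2.1
  haveI : ConnectedSpace (Red.geomFibre s G).left := (hG.2.2 s).2.2.1
  obtain ⟨hpm, hpc, -, B, _, b, hb⟩ := hP.2.2.2 s
  haveI := hpm
  haveI := hpc
  obtain ⟨hbm, hbc, hbs, hbn, -, -⟩ := id hb
  haveI := hbm
  haveI := hbc
  haveI := hbs
  haveI := hbn
  obtain ⟨T, _, iT, t, hT, ht⟩ := TorPts21.exists_maxTorus_le hb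
  haveI : Mono ((Over.pullback (Red.geomPt s)).map p) := Over.mono_of_mono_left _
  haveI : IsMonHom (t ≫ b) := TorsorSch25.isMonHom_of_points _ fun X x y =>
    (cancel_mono ((Over.pullback (Red.geomPt s)).map p)).1 (by
      haveI := hT.1
      have e : ∀ z : X ⟶ T, (z ≫ t ≫ b) ≫ (Over.pullback (Red.geomPt s)).map p = z ≫ iT := fun z => by
        rw [Category.assoc, Category.assoc, ht]
      rw [e, MonObj.mul_comp, MonObj.mul_comp, e, e])
  exact ⟨T, inferInstance, t ≫ b, inferInstance, by rwa [Category.assoc, ht]⟩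

/-- Maximal tori of parabolic subgroups after a base change are maximal in the group. -/
theorem isMaximalTorus_comp (hG : Red.IsReductive G) (p : P ⟶ G) (hP : Red.IsParabolic p)
    {S' : Scheme.{u}} (v : S' ⟶ S) {T : Over S'} [GrpObj T] {i : T ⟶ Red.bc v P} (hi : Red.IsMaximalTorus i) :
    Red.IsMaximalTorus (i ≫ (Over.pullback v).map p) := by
  haveI := hP.1
  haveI := hP.2.1
  haveI := hP.2.2.1
  haveI := hG.1
  haveI := hG.2.1
  haveI := hi.1
  haveI := hi.2.1
  haveI : Mono p := Over.mono_of_mono_left p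
  haveI : QuasiCompact P.hom := by rw [← Over.w p]; infer_instance
  haveI : IsMonHom ((Over.pullback v).map p) := MTRigid29.isMonHom_map p v
  haveI : Mono ((Over.pullback v).map p) := Functor.map_mono _ _
  refine ⟨inferInstance, inferInstance, hi.2.2.1, fun s' T' _ j _ _ f hT' hf => ?_⟩
  let k := Red.geomPt s'
  obtain ⟨t, a, -, hka⟩ := MTExt21.exists_factor_geomPt (k ≫ v)
  let φ : Spec (CommRingCat.of (AlgebraicClosure (S'.residueField s'))) ⟶ _ := Spec.map (CommRingCat.ofHom a)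
  letI := a.toAlgebra
  let σ := Red.geomPt t
  let ps := (Over.pullback σ).map p
  haveI : IsMonHom ps := MTRigid29.isMonHom_map p σ
  haveI : Mono ps := Functor.map_mono _ _
  haveI : IsAffine (Red.bc σ G).left := (hG.2.2 t).1
  haveI : Smooth (Red.bc σ P).hom := inferInstanceAs (Smooth (pullback.snd P.hom σ))
  haveI : Smooth (Red.bc σ G).hom := inferInstanceAs (Smooth (pullback.snd G.hom σ))
  haveI : QuasiCompact (Red.bc σ P).hom := inferInstanceAs (QuasiCompact (pullback.snd P.hom σ))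
  haveI : ConnectedSpace (Red.bc σ P).left := CentMT21.connectedSpace_geomFibre P
    (BorelNorm21.isNormalizerOf_and_closed_parabolic hG p hP.2.2.2).2.2 t
  obtain ⟨T₀, _, t₀, ht₀m, ht₀⟩ := exists_torus hG p hP t
  haveI := ht₀m
  have hΩ := MTExt21.isMaxTorus_ext (AlgebraicClosure (S'.residueField s')) ht₀
  rw [Functor.map_comp] at hΩ
  haveI : IsMonHom ((Over.pullback φ).map t₀) := MTRigid29.isMonHom_map t₀ φ
  haveI : IsMonHom ((Over.pullback φ).map ps) := MTRigid29.isMonHom_map ps φ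
  haveI : Mono ((Over.pullback φ).map ps) := Functor.map_mono _ _
  haveI : Smooth (Red.bc φ (Red.bc σ P)).hom := BorelFix21.smooth_bc φ _
  haveI : QuasiCompact (Red.bc φ (Red.bc σ P)).hom := inferInstanceAs (QuasiCompact (pullback.snd _ φ))
  haveI : ConnectedSpace (Red.bc φ (Red.bc σ P)).left := BorelFix21.connectedSpace_bc φ _
  haveI : IsAffine (Red.bc φ (Red.bc σ G)).left := BorelFix21.isAffine_bc φ _
  haveI : Smooth (Red.bc φ (Red.bc σ G)).hom := BorelFix21.smooth_bc φ _
  let eP := SpreadSub19.bcComp v k (c := k ≫ v) rfl P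
  let eG := SpreadSub19.bcComp v k (c := k ≫ v) rfl G
  let eP' := SpreadSub19.bcComp σ φ (c := k ≫ v) hka.symm P
  let eG' := SpreadSub19.bcComp σ φ (c := k ≫ v) hka.symm G
  haveI : IsMonHom eP.hom := SpreadSub19.bcComp_isMonHom v k rfl P
  haveI : IsMonHom eG.hom := SpreadSub19.bcComp_isMonHom v k rfl G
  haveI : IsMonHom eP'.hom := SpreadSub19.bcComp_isMonHom σ φ hka.symm P
  haveI : IsMonHom eG'.hom := SpreadSub19.bcComp_isMonHom σ φ hka.symm G
  let ik := (Over.pullback k).map i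
  let pk := (Over.pullback k).map ((Over.pullback v).map p)
  have hk : AGF.IsMaxTorus ik := CartanRel21.isMaxTorus_geom hi s'
  haveI : IsMonHom ik := hk.1
  haveI : IsMonHom eP.inv := BorelFix21.isMonHom_of_comp eP.hom eP.inv (by rw [Iso.inv_hom_id]; infer_instance)
  haveI : IsMonHom eP'.inv := BorelFix21.isMonHom_of_comp eP'.hom eP'.inv (by rw [Iso.inv_hom_id]; infer_instance)
  haveI : IsMonHom eG.inv := BorelFix21.isMonHom_of_comp eG.hom eG.inv (by rw [Iso.inv_hom_id]; infer_instance)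
  haveI : IsMonHom eG'.inv := BorelFix21.isMonHom_of_comp eG'.hom eG'.inv (by rw [Iso.inv_hom_id]; infer_instance)
  haveI : IsMonHom (eP' ≪≫ eP.symm).hom := inferInstanceAs (IsMonHom (eP'.hom ≫ eP.inv))
  haveI : IsMonHom (eG ≪≫ eG'.symm).hom := inferInstanceAs (IsMonHom (eG.hom ≫ eG'.inv))
  haveI : IsMonHom (Iso.refl ((Over.pullback k).obj T)).hom :=
    inferInstanceAs (IsMonHom (𝟙 ((Over.pullback k).obj T)))
  have h1 : AGF.IsMaxTorus (ik ≫ eP.hom ≫ eP'.inv) :=
    MTExt21.isMaxTorus_transfer hk (Iso.refl _) (eP' ≪≫ eP.symm) _ (by simp)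
  have h2 := isMaxTorus_comp ((Over.pullback φ).map ps) ((Over.pullback φ).map t₀) hΩ _ h1
  have h3 : AGF.IsMaxTorus (ik ≫ pk) := MTExt21.isMaxTorus_transfer h2 (Iso.refl _) (eG ≪≫ eG'.symm) _ (by
    rw [Iso.trans_hom, Iso.symm_hom, Iso.refl_hom, Category.id_comp]
    simp only [Category.assoc]
    rw [← cancel_mono eG'.hom]
    simp only [Category.assoc, Iso.inv_hom_id, Category.comp_id]
    rw [SpreadSub19.bcComp_natural v k rfl p, SpreadSub19.bcComp_natural σ φ hka.symm p, Iso.inv_hom_id_assoc])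
  exact h3.2.2.2 T' j f hT' (hf.trans (Functor.map_comp _ _ _))

end Groth.Agent.ParTorus19
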